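import Cfsg.Agent.H854.Affine

/-!
# S5554, TT3: two affine planes with commuting parallel classes (Lemma X)
-/

set_option autoImplicit false

namespace Cfsg.Agent.H267.TT.LemX

open Cfsg.Agent.H854.TM

variable {G M : Type*} [Group G] [AddCommGroup M] [DistribMulAction G M] {D : Set G}

/-- `N_{S u} N_S` kills the vectors killed by `N_u` -/
theorem N_mul_N {S u : G} (hS : S * S * S = 1) (hc : S * u = u * S) {z : M} (hz : N u z = 0) :
    N (S * u) (N S z) = 0 := by
  have hs : S • N S z = N S z := smul_N hS z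
  have cm : Commute S u := hc
  have h1 : N u (N S z) = N S (N u z) := by
    have c1 : u * S = S * u := hc.symm
    have c2 : u * (S * S) = S * S * u := (cm.symm.mul_right cm.symm).eq
    have c3 : u * u * S = S * (u * u) := (cm.symm.mul_left cm.symm).eq
    have c4 : u * u * (S * S) = S * S * (u * u) :=
      ((cm.symm.mul_right cm.symm).mul_left (cm.symm.mul_right cm.symm)).eq
    simp only [N_def, smul_add, smul_smul, c1, c2, c3, c4]
    abel
  have h2 : N (S * u) (N S z) = N u (N S z) := by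
    have e1 : (S * u) • N S z = u • N S z := by rw [hc, mul_smul, hs]
    have e2 : (S * u * (S * u)) • N S z = (u * u) • N S z := by
      have e3 : S * u * (S * u) = (u * u) * (S * S) := by
        calc S * u * (S * u) = (u * S) * (u * S) := by rw [hc]
          _ = u * (S * u) * S := by simp only [mul_assoc]
          _ = u * (u * S) * S := by rw [hc]
          _ = _ := by simp only [mul_assoc]
      rw [e3, mul_smul, mul_smul S S, hs, hs]
    rw [N_def, e1, e2]
    rfl
  rw [h2, h1, hz, N_zero]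

/-- a vector killed by the norm is a commutator -/
theorem eq_comm_of_N (h2 : ∀ m : M, m + m = 0) {S : G} {z : M} (hz : N S z = 0) :
    ∃ m : M, z = m + S • m := by
  refine ⟨S • z, ?_⟩
  rw [N_def] at hz
  rw [smul_smul]
  have h3 : z + (z + S • z + (S * S) • z) = z + 0 := by rw [hz]
  have h4 : z + (z + S • z + (S * S) • z) = (z + z) + (S • z + (S * S) • z) := by abel
  rw [h4, h2, zero_add, add_zero] at h3
  exact h3.symm

/-- an element commuting with `p` and `q` acts trivially on `[M, pq]` -/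
theorem fix_comm (hM : IsTM D M) {p q e : G} (hp : p ∈ D) (hq : q ∈ D) (he : e ∈ D)
    (h1 : p * e = e * p) (h2 : q * e = e * q) (m : M) : e • (m + (p * q) • m) = m + (p * q) • m := by
  have e1 : m + (p * q) • m = (m + q • m) + (q • m + p • q • m) := by
    have : q • m + q • m = 0 := hM.two _
    rw [mul_smul]
    calc m + p • q • m = m + 0 + p • q • m := by rw [add_zero]
      _ = m + (q • m + q • m) + p • q • m := by rw [this]
      _ = _ := by abel
  rw [e1, smul_add, hM.comm q hq e he h2, hM.comm p hp e he h1]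

/-- the same for vectors killed by the norm of `pq` -/
theorem fix_of_N (hM : IsTM D M) {p q e S : G} (hp : p ∈ D) (hq : q ∈ D) (he : e ∈ D)
    (h1 : p * e = e * p) (h2 : q * e = e * q) (hS : p * q = S) {z : M} (hz : N S z = 0) :
    e • z = z := by
  obtain ⟨m, rfl⟩ := eq_comm_of_N hM.two hz
  rw [← hS]
  exact fix_comm hM hp hq he h1 h2 m

/-- `N_ζ` kills `[M, f]` -/
theorem N_zeta (hM : IsTM D M) {f g h : G} (A : Aff D f g h) (m : M) :
    N (Aff.zeta f g h) (m + f • m) = 0 := by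
  obtain ⟨c1, c2, hz3⟩ := A.zeta_spec hM
  have hff := hM.sq f A.hf
  have hzf := A.commute_f hM
  have e : ∀ w : M, N (Aff.zeta f g h) (f • w) = f • N (Aff.zeta f g h) w := by
    intro w
    have e1 : Aff.zeta f g h * f = f * Aff.zeta f g h := by
      calc Aff.zeta f g h * f = (f * f) * Aff.zeta f g h * f := by rw [hff, one_mul]
        _ = f * (f * Aff.zeta f g h * f) := by simp only [mul_assoc]
        _ = f * Aff.zeta f g h := by rw [hzf]
    have e2 : Aff.zeta f g h * Aff.zeta f g h * f = f * (Aff.zeta f g h * Aff.zeta f g h) := by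
      rw [mul_assoc, e1, ← mul_assoc, e1, mul_assoc]
    simp only [N_def, smul_add, smul_smul, e1, e2]
  rw [N_add, e, A.fix_f hM (smul_N hz3 m), hM.two]

/-- **Lemma X.** -/
theorem lemX (hM : IsTM D M) {f g h : G} (A : Aff D f g h) {e p q : G} (he : e ∈ D) (hp : p ∈ D)
    (hq : q ∈ D) (p1 : f * p = p * f) (p2 : g * p = p * g) (e1 : h * e = e * h)
    (e2 : ((f * g) * h * (f * g)⁻¹) * e = e * ((f * g) * h * (f * g)⁻¹))
    (q1 : (f * h * f) * q = q * (f * h * f))
    (q2 : ((f * g) * (f * h * f) * (f * g)⁻¹) * q = q * ((f * g) * (f * h * f) * (f * g)⁻¹))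
    (hep : e = p * q * p) (m : M) : e • (m + f • m) = m + f • m := by
  obtain ⟨hs, ht, hst, hst'⟩ := A.relations hM
  obtain ⟨c1, c2, hz3⟩ := A.zeta_spec hM
  have hff := hM.sq f A.hf
  have hhh := hM.sq h A.hh
  have hDfhf : f * h * f ∈ D := by
    have := hM.conj f h A.hh
    rwa [inv_of_sq hff] at this
  have hfS : f * (f * g) * f = (f * g)⁻¹ := conj_prod hff (hM.sq g A.hg)
  have hfT : f * (f * h) * f = (f * h)⁻¹ := conj_prod hff hhh
  have hh : h = f * (f * h) := by rw [← mul_assoc, hff, one_mul]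
  have hzdef : Aff.zeta f g h = (f * g) * (f * h) * (f * g)⁻¹ * (f * h)⁻¹ := rfl
  have hN := N_zeta hM A m
  generalize hζ : Aff.zeta f g h = ζ at *
  generalize hS : f * g = S at *
  generalize hT : f * h = T at *
  generalize hz : m + f • m = z at *
  have hζ2 : ζ⁻¹ = ζ * ζ := inv_eq_mul_self hz3
  -- the commutation of `S` and `T`
  have hST : S * T = ζ * (T * S) := by rw [hzdef]; group
  have k1 : T⁻¹ * S * T = ζ * S := by
    rw [mul_assoc, hST]
    calc T⁻¹ * (ζ * (T * S)) = T⁻¹ * (ζ * T) * S := by simp only [mul_assoc]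
      _ = T⁻¹ * (T * ζ) * S := by rw [c2.eq]
      _ = _ := by group
  have k1' : T⁻¹ * S⁻¹ * T = ζ⁻¹ * S⁻¹ := by
    have : T⁻¹ * S⁻¹ * T = (T⁻¹ * S * T)⁻¹ := by group
    rw [this, k1, mul_inv_rev]
    exact (c1.inv_inv).eq
  have k2 : T * S⁻¹ * T⁻¹ = S⁻¹ * ζ := by rw [hzdef]; group
  have hS2 : S⁻¹ * S⁻¹ = S := by
    rw [inv_eq_mul_self hs]
    calc S * S * (S * S) = (S * S * S) * S := by simp only [mul_assoc]
      _ = S := by rw [hs, one_mul]
  have hTf : f * T = h := hh.symm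
  have hTf' : T⁻¹ * f = h := by
    have h1 : (f * T)⁻¹ = h := by rw [hTf]; exact inv_of_sq hhh
    rwa [mul_inv_rev, inv_of_sq hff] at h1
  have hfT2 : f * T⁻¹ = T * f := by
    have := conj_inv_of hff hfT
    calc f * T⁻¹ = (f * T⁻¹ * f) * (f * 1) := by
          rw [mul_one]
          calc f * T⁻¹ = f * T⁻¹ * 1 := by rw [mul_one]
            _ = f * T⁻¹ * (f * f) := by rw [hff]
            _ = _ := by simp only [mul_assoc]
      _ = T * f := by rw [this, mul_one]
  -- the three translations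
  have s1 : h * (S * h * S⁻¹) = S * (ζ * ζ) := by
    calc h * (S * h * S⁻¹) = (T⁻¹ * f) * (S * (f * T) * S⁻¹) := by rw [hTf', hTf]
      _ = T⁻¹ * (f * S * f) * T * S⁻¹ := by simp only [mul_assoc]
      _ = (T⁻¹ * S⁻¹ * T) * S⁻¹ := by rw [hfS]
      _ = ζ⁻¹ * (S⁻¹ * S⁻¹) := by rw [k1', mul_assoc]
      _ = ζ⁻¹ * S := by rw [hS2]
      _ = S * ζ⁻¹ := (c1.inv_right).eq.symm
      _ = _ := by rw [hζ2]
  have s2 : (T * f) * (S * (T * f) * S⁻¹) = S * ζ := by
    calc (T * f) * (S * (T * f) * S⁻¹) = (T * f) * (S * (f * T⁻¹) * S⁻¹) := by rw [hfT2]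
      _ = T * (f * S * f) * T⁻¹ * S⁻¹ := by simp only [mul_assoc]
      _ = (T * S⁻¹ * T⁻¹) * S⁻¹ := by rw [hfS]
      _ = S⁻¹ * ζ * S⁻¹ := by rw [k2]
      _ = S⁻¹ * S⁻¹ * ζ := by
          rw [mul_assoc, mul_assoc, (c1.inv_left).eq]
      _ = S * ζ := by rw [hS2]
  have cz : S * ζ = ζ * S := c1.eq
  have cz2 : Commute S (ζ * ζ) := c1.mul_right c1
  have hζ4 : ζ * ζ * (ζ * ζ) = ζ := by
    calc ζ * ζ * (ζ * ζ) = (ζ * ζ * ζ) * ζ := by simp only [mul_assoc]
      _ = ζ := by rw [hz3, one_mul]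
  have hN2 : N (ζ * ζ) z = 0 := by
    have : N (ζ * ζ) z = N ζ z := by
      simp only [N_def, hζ4]
      abel
    rw [this, hN]
  -- cubes
  have cube1 : (S * ζ) * (S * ζ) * (S * ζ) = 1 := by
    have h3 := c1.mul_pow 3
    calc (S * ζ) * (S * ζ) * (S * ζ) = (S * ζ) ^ 3 := by simp only [pow_succ, pow_zero, one_mul]
      _ = S ^ 3 * ζ ^ 3 := h3
      _ = (S * S * S) * (ζ * ζ * ζ) := by simp only [pow_succ, pow_zero, one_mul]
      _ = 1 := by rw [hs, hz3, one_mul]
  have cube2 : (S * (ζ * ζ)) * (S * (ζ * ζ)) * (S * (ζ * ζ)) = 1 := by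
    have h3 := cz2.mul_pow 3
    calc (S * (ζ * ζ)) * (S * (ζ * ζ)) * (S * (ζ * ζ)) = (S * (ζ * ζ)) ^ 3 := by
          simp only [pow_succ, pow_zero, one_mul]
      _ = S ^ 3 * (ζ * ζ) ^ 3 := h3
      _ = (S * S * S) * ((ζ * ζ) * (ζ * ζ) * (ζ * ζ)) := by simp only [pow_succ, pow_zero, one_mul]
      _ = 1 := by rw [hs, hζ4, one_mul, ← mul_assoc, hz3]
  -- decomposition
  have key := nine_pair hM.two (t := S) (u := ζ) hz3 cz z
  rw [hN, N_zero, add_zero, add_zero] at key
  -- the nine vanishing norms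
  have cSz : Commute (S * ζ) ζ := c1.mul_left (Commute.refl ζ)
  have cSz' : Commute (S * ζ) (ζ * ζ) := cSz.mul_right cSz
  have cSzz : Commute (S * (ζ * ζ)) ζ := c1.mul_left ((Commute.refl ζ).mul_left (Commute.refl ζ))
  have cSzz' : Commute (S * (ζ * ζ)) (ζ * ζ) := cSzz.mul_right cSzz
  have a01 : N (S * ζ) (N S z) = 0 := N_mul_N hs cz hN
  have a02 : N (S * (ζ * ζ)) (N S z) = 0 := N_mul_N hs cz2.eq hN2
  have a12 : N (S * (ζ * ζ)) (N (S * ζ) z) = 0 := by
    have := N_mul_N cube1 cSz.eq hN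
    rwa [mul_assoc S ζ ζ] at this
  have a10 : N S (N (S * ζ) z) = 0 := by
    have := N_mul_N cube1 cSz'.eq hN2
    have e3 : S * ζ * (ζ * ζ) = S := by
      rw [mul_assoc, ← mul_assoc ζ, hz3, mul_one]
    rwa [e3] at this
  have a20 : N S (N (S * (ζ * ζ)) z) = 0 := by
    have := N_mul_N cube2 cSzz.eq hN
    have e3 : S * (ζ * ζ) * ζ = S := by
      rw [mul_assoc, hz3, mul_one]
    rwa [e3] at this
  have a21 : N (S * ζ) (N (S * (ζ * ζ)) z) = 0 := by
    have := N_mul_N cube2 cSzz'.eq hN2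
    have e3 : S * (ζ * ζ) * (ζ * ζ) = S * ζ := by
      rw [mul_assoc, hζ4]
    rwa [e3] at this
  have hD1 : S * h * S⁻¹ ∈ D := hM.conj S h A.hh
  have hD2 : S * (T * f) * S⁻¹ ∈ D := hM.conj S _ hDfhf
  -- `p` fixes z1 z2, `q` fixes z0 z1, `e` fixes z0 z2
  have E0 : e • N S z = N S z := fix_of_N hM A.hh hD1 he e1 e2 s1 a02
  have E2 : e • N (S * ζ) z = N (S * ζ) z := fix_of_N hM A.hh hD1 he e1 e2 s1 a12
  have Q1 : q • N (S * (ζ * ζ)) z = N (S * (ζ * ζ)) z :=
    fix_of_N hM hDfhf hD2 hq q1 q2 s2 a21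
  have P1 : p • N (S * (ζ * ζ)) z = N (S * (ζ * ζ)) z :=
    fix_of_N hM A.hf A.hg hp p1 p2 hS a20
  have E1 : e • N (S * (ζ * ζ)) z = N (S * (ζ * ζ)) z := by
    rw [hep, mul_smul, mul_smul, P1, Q1, P1]
  rw [key, smul_add, smul_add, E0, E1, E2]

end Cfsg.Agent.H267.TT.LemX
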